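import Mathlib

/-!
A finitely generated field extension which is formally smooth has a smooth model.
-/

namespace Groth.Agent.SmoothModelLead

universe u v

theorem exists_model (F : Type v) [CommRing F] [IsNoetherianRing F] (K : Type u) [Field K] [Algebra F K]
    (s : Finset K) (hs : Subfield.closure (↑s : Set K) = ⊤)
    (hsm : Algebra.EssFiniteType F K → Algebra.FormallySmooth F K) :
    ∃ A : Subalgebra F K, Algebra.FiniteType F A ∧ Algebra.Smooth F A ∧ IsFractionRing A K := by
  classical
  obtain ⟨A₀, hA₀⟩ : ∃ A₀, A₀ = Algebra.adjoin F (↑s : Set K) := ⟨_, rfl⟩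
  haveI hfin : Algebra.FiniteType F A₀ :=
    (Subalgebra.fg_iff_finiteType _).1 (hA₀ ▸ Subalgebra.fg_adjoin_finset s)
  have hfrac : ∀ B : Subalgebra F K, (↑s : Set K) ⊆ B → IsFractionRing B K := by
    intro B hB
    refine IsFractionRing.of_field B K fun x => ?_
    have hx : x ∈ Subfield.closure (↑s : Set K) := by rw [hs]; exact Subfield.mem_top x
    obtain ⟨y, hy, z, hz, rfl⟩ := Subfield.mem_closure_iff.1 hx
    have hle : Subring.closure (↑s : Set K) ≤ B.toSubring := Subring.closure_le.2 hB
    exact ⟨⟨y, hle hy⟩, ⟨z, hle hz⟩, rfl⟩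
  haveI : IsFractionRing A₀ K := hfrac A₀ (hA₀ ▸ Algebra.subset_adjoin)
  haveI : Algebra.EssFiniteType A₀ K := Algebra.EssFiniteType.of_isLocalization K (nonZeroDivisors A₀)
  haveI : Algebra.EssFiniteType F K := Algebra.EssFiniteType.comp F A₀ K
  haveI := hsm inferInstance
  haveI : Algebra.FinitePresentation F A₀ := Algebra.FinitePresentation.of_finiteType.1 hfin
  haveI : (⊥ : Ideal A₀).IsPrime := Ideal.isPrime_bot
  haveI : Algebra.IsSmoothAt F (⊥ : Ideal A₀) := by
    haveI : IsLocalization (⊥ : Ideal A₀).primeCompl K := by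
      rw [Ideal.primeCompl_bot]; infer_instance
    exact Algebra.FormallySmooth.of_equiv
      ((IsLocalization.algEquiv (⊥ : Ideal A₀).primeCompl K (Localization.AtPrime (⊥ : Ideal A₀))).restrictScalars F)
  obtain ⟨f, hf, hsf⟩ := Algebra.IsSmoothAt.exists_notMem_smooth F (⊥ : Ideal A₀)
  have hf0 : f ≠ 0 := fun h => hf (by simp [h])
  have hunit : IsUnit (algebraMap A₀ K f) :=
    (isUnit_iff_ne_zero).2 (fun h => hf0 (Subtype.ext (by simpa using h)))
  haveI : IsLocalization (Submonoid.powers f) (Localization.Away f) := inferInstance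
  let g : Localization.Away f →ₐ[F] K :=
    (IsLocalization.liftAlgHom (S := Localization.Away f) (M := Submonoid.powers f)
      (f := Algebra.ofId A₀ K) (by rintro ⟨_, n, rfl⟩; simpa using hunit.pow n)).restrictScalars F
  have hg : ∀ a : A₀, g (algebraMap A₀ (Localization.Away f) a) = (a : K) := fun a =>
    (IsLocalization.liftAlgHom (S := Localization.Away f) (M := Submonoid.powers f)
      (f := Algebra.ofId A₀ K) (by rintro ⟨_, n, rfl⟩; simpa using hunit.pow n)).commutes a
  have hinj : Function.Injective g := by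
    change Function.Injective (IsLocalization.lift (M := Submonoid.powers f) (S := Localization.Away f)
      (g := (algebraMap A₀ K)) (fun y => by obtain ⟨_, n, rfl⟩ := y; simpa using hunit.pow n))
    rw [IsLocalization.lift_injective_iff]
    intro x y
    constructor
    · intro h
      have hle : Submonoid.powers f ≤ nonZeroDivisors A₀ :=
        powers_le_nonZeroDivisors_of_noZeroDivisors hf0
      rw [IsLocalization.injective (Localization.Away f) hle h]
    · intro h
      rw [IsFractionRing.injective A₀ K h]
  haveI := hsf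
  haveI : Algebra.Smooth F g.range := Algebra.Smooth.of_equiv (AlgEquiv.ofInjective g hinj)
  refine ⟨g.range, inferInstance, inferInstance, hfrac _ fun x hx => ?_⟩
  exact ⟨algebraMap A₀ (Localization.Away f) ⟨x, hA₀ ▸ Algebra.subset_adjoin hx⟩, hg _⟩

end Groth.Agent.SmoothModelLead
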